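import Cfsg.Agent.Lib.Classical.SLOrders
import Mathlib.Algebra.BigOperators.Group.Finset.Sigma
import Mathlib.Data.Matrix.Reflection
import Mathlib.Data.ZMod.Basic
import Mathlib.GroupTheory.Coset.Card
import Mathlib.GroupTheory.Subgroup.Centralizer
import Mathlib.LinearAlgebra.Matrix.SpecialLinearGroup
import Mathlib.LinearAlgebra.Matrix.Trace

/-!
# The classes of SL(3,3) and their centraliser orders

Twelve representatives, a conjugation invariant separating them and the class equation.
-/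

set_option autoImplicit false

namespace CfsgLib.Recognition.CommutingGraphPSL33

open Subgroup Finset

/-- The group SL(3,3). -/
abbrev SG := Matrix.SpecialLinearGroup (Fin 3) (ZMod 3)

/-- Row vectors. -/
abbrev V3 := ZMod 3 × ZMod 3 × ZMod 3

/-- The matrix with the given rows. -/
def toMat (m : V3 × V3 × V3) : Matrix (Fin 3) (Fin 3) (ZMod 3) :=
  !![m.1.1, m.1.2.1, m.1.2.2; m.2.1.1, m.2.1.2.1, m.2.1.2.2; m.2.2.1, m.2.2.2.1, m.2.2.2.2]

/-- The rows of a matrix. -/
def ofMat (A : Matrix (Fin 3) (Fin 3) (ZMod 3)) : V3 × V3 × V3 :=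
  ((A 0 0, A 0 1, A 0 2), (A 1 0, A 1 1, A 1 2), (A 2 0, A 2 1, A 2 2))

theorem toMat_ofMat (A : Matrix (Fin 3) (Fin 3) (ZMod 3)) : toMat (ofMat A) = A :=
  (Matrix.eta_fin_three A).symm

theorem ofMat_toMat (m : V3 × V3 × V3) : ofMat (toMat m) = m := rfl

/-- Quick test over the natural numbers for commuting with a matrix and determinant one. -/
def test (r x y z : V3) : V3 → V3 → Bool := fun r' r'' =>
  let a := x.1.val; let b := x.2.1.val; let c := x.2.2.val
  let d := y.1.val; let e := y.2.1.val; let f := y.2.2.val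
  let g := z.1.val; let h := z.2.1.val; let i := z.2.2.val
  let A := r.1.val; let B := r.2.1.val; let C := r.2.2.val
  let D := r'.1.val; let E := r'.2.1.val; let F := r'.2.2.val
  let G := r''.1.val; let H := r''.2.1.val; let I := r''.2.2.val
  ((a*A+b*D+c*G)%3).beq ((A*a+B*d+C*g)%3) && ((a*B+b*E+c*H)%3).beq ((A*b+B*e+C*h)%3) &&
  ((a*C+b*F+c*I)%3).beq ((A*c+B*f+C*i)%3) && ((d*A+e*D+f*G)%3).beq ((D*a+E*d+F*g)%3) &&
  ((d*B+e*E+f*H)%3).beq ((D*b+E*e+F*h)%3) && ((d*C+e*F+f*I)%3).beq ((D*c+E*f+F*i)%3) &&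
  ((g*A+h*D+i*G)%3).beq ((G*a+H*d+I*g)%3) && ((g*B+h*E+i*H)%3).beq ((G*b+H*e+I*h)%3) &&
  ((g*C+h*F+i*I)%3).beq ((G*c+H*f+I*i)%3) &&
  ((a*e*i + 2*(a*f*h) + 2*(b*d*i) + b*f*g + c*d*h + 2*(c*e*g))%3).beq (1%3)

theorem test_iff (r m : V3 × V3 × V3) :
    test r.1 m.1 m.2.1 m.2.2 r.2.1 r.2.2 = true ↔
      (toMat m * toMat r = toMat r * toMat m ∧ (toMat m).det = 1) := by
  have h2 : (2 : ZMod 3) = -1 := by decide
  have hb : ∀ p q : ℕ, (p % 3).beq (q % 3) = true ↔ (p : ZMod 3) = (q : ZMod 3) := fun p q => by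
    rw [ZMod.natCast_eq_natCast_iff']; exact ⟨Nat.eq_of_beq_eq_true, fun e => e ▸ Nat.beq_refl _⟩
  simp only [test, Bool.and_eq_true, hb, Nat.cast_add, Nat.cast_mul, ZMod.natCast_val,
    ZMod.cast_id', id_eq, Nat.cast_ofNat, Nat.cast_one, h2]
  rw [Matrix.det_fin_three, ← Matrix.ext_iff]
  simp only [Fin.forall_fin_succ, Fin.forall_fin_zero, Matrix.mul_apply, Fin.sum_univ_three, toMat,
    Matrix.of_apply, Matrix.cons_val_zero, Matrix.cons_val_one, Matrix.cons_val, Fin.succ_zero_eq_one,
    Fin.succ_one_eq_two, and_true, and_assoc]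
  ring_nf

/-- The last row forced on a matrix commuting with `r`, when `r` has first row `(0,0,1)`. -/
def zOf (r : V3 × V3 × V3) (x : V3) : V3 :=
  (x.1 * r.1.1 + x.2.1 * r.2.1.1 + x.2.2 * r.2.2.1,
    x.1 * r.1.2.1 + x.2.1 * r.2.1.2.1 + x.2.2 * r.2.2.2.1,
    x.1 * r.1.2.2 + x.2.1 * r.2.1.2.2 + x.2.2 * r.2.2.2.2)

theorem eq_zOf {r m : V3 × V3 × V3} (hr : r.1 = (0, 0, 1))
    (h : toMat m * toMat r = toMat r * toMat m) : m.2.2 = zOf r m.1 := by
  have h' : ∀ j : Fin 3,
      toMat m 0 0 * toMat r 0 j + toMat m 0 1 * toMat r 1 j + toMat m 0 2 * toMat r 2 j =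
        r.1.1 * toMat m 0 j + r.1.2.1 * toMat m 1 j + r.1.2.2 * toMat m 2 j := fun j => by
    have := congrFun (congrFun h 0) j
    rw [Matrix.mul_apply, Matrix.mul_apply, Fin.sum_univ_three, Fin.sum_univ_three] at this
    exact this
  have e : ∀ j : Fin 3,
      toMat m 0 0 * toMat r 0 j + toMat m 0 1 * toMat r 1 j + toMat m 0 2 * toMat r 2 j =
        toMat m 2 j := fun j => by
    rw [h' j, hr]
    simp only [zero_mul, one_mul, zero_add]
  exact (Prod.ext (e 0) (Prod.ext (e 1) (e 2)) :
    zOf r m.1 = m.2.2).symm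

attribute [local irreducible] test zOf

/-- The number of elements of SL(3,3) commuting with a matrix of first row `(0,0,1)`. -/
def cnt (r : V3 × V3 × V3) : ℕ :=
  ((univ : Finset (V3 × V3)).filter fun p =>
    test r.1 p.1 p.2 (zOf r p.1) r.2.1 r.2.2 = true).card

theorem card_comm {r : V3 × V3 × V3} (hr : r.1 = (0, 0, 1)) :
    Nat.card {g : SG // g.1 * toMat r = toMat r * g.1} = cnt r := by
  rw [cnt, ← Fintype.card_subtype, ← Nat.card_eq_fintype_card]
  have hz : ∀ g : {g : SG // g.1 * toMat r = toMat r * g.1},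
      (ofMat g.1.1).2.2 = zOf r (ofMat g.1.1).1 := fun g =>
    eq_zOf hr (by rw [toMat_ofMat]; exact g.2)
  refine Nat.card_congr
    { toFun := fun g => ⟨((ofMat g.1.1).1, (ofMat g.1.1).2.1), by
        refine (test_iff r ((ofMat g.1.1).1, (ofMat g.1.1).2.1, zOf r (ofMat g.1.1).1)).mpr ?_
        rw [← hz g]
        show toMat (ofMat g.1.1) * _ = _ * toMat (ofMat g.1.1) ∧ (toMat (ofMat g.1.1)).det = 1
        rw [toMat_ofMat]; exact ⟨g.2, g.1.2⟩⟩
      invFun := fun m => ⟨⟨toMat (m.1.1, m.1.2, zOf r m.1.1), ((test_iff r _).mp m.2).2⟩,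
        ((test_iff r _).mp m.2).1⟩
      left_inv := fun g => Subtype.ext (Subtype.ext (by
        show toMat _ = _
        rw [← hz g]; exact toMat_ofMat _))
      right_inv := fun m => Subtype.ext rfl }

/-- The class representatives. -/
def repM : Fin 12 → V3 × V3 × V3 :=
  ![((1,0,0),(0,1,0),(0,0,1)), ((0,0,1),(0,1,0),(2,0,2)), ((0,0,1),(0,2,0),(1,0,0)),
    ((0,0,1),(0,2,1),(1,1,0)), ((0,0,1),(1,0,0),(1,1,0)), ((0,0,1),(0,1,1),(2,2,0)),
    ((0,0,1),(1,0,0),(0,1,2)), ((0,0,1),(1,0,0),(0,1,0)), ((0,0,1),(0,1,0),(2,0,0)),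
    ((0,0,1),(0,2,0),(1,0,2)), ((0,0,1),(0,2,0),(1,0,1)), ((0,0,1),(0,1,0),(2,0,1))]

/-- The centraliser orders of the representatives. -/
def cent : Fin 12 → ℕ := ![5616, 54, 48, 13, 13, 13, 13, 9, 8, 8, 8, 6]

theorem repM_det : ∀ i, (toMat (repM i)).det = 1 := by
  intro i; rw [Matrix.det_fin_three]; revert i; decide +kernel

/-- A class representative in SL(3,3). -/
def rep (i : Fin 12) : SG := ⟨toMat (repM i), repM_det i⟩

theorem cnt_repM : ∀ i : Fin 11, cnt (repM i.succ) = cent i.succ := by decide +kernel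

theorem repM_row : ∀ i : Fin 11, (repM i.succ).1 = (0, 0, 1) := by decide +kernel

theorem card_SG : Nat.card SG = 5616 := by
  haveI : Fact (Nat.Prime 3) := ⟨by norm_num⟩
  have h := CfsgLib.Classical.card_sl_mul (F := ZMod 3) (q := 3) (ZMod.card 3) 3 (by norm_num)
  rw [show (∏ i : Fin 3, ((3 : ℕ) ^ 3 - 3 ^ (i : ℕ))) = 11232 by decide] at h
  exact Nat.eq_of_mul_eq_mul_left (by norm_num : 0 < 3 - 1) (h.trans (by norm_num))

theorem rep_zero : rep 0 = 1 := Subtype.ext (by decide +kernel : toMat (repM 0) = 1)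

theorem card_centralizer_rep (i : Fin 12) :
    Nat.card ↥(centralizer ({rep i} : Set SG)) = cent i := by
  refine Fin.cases ?_ (fun j => ?_) i
  · rw [rep_zero, show cent 0 = Nat.card SG from card_SG.symm]
    exact Nat.card_congr (Equiv.subtypeUnivEquiv fun g => by simp [mem_centralizer_singleton_iff])
  rw [← cnt_repM j, ← card_comm (repM_row j)]
  refine Nat.card_congr (Equiv.subtypeEquivRight fun g => ?_)
  rw [mem_centralizer_singleton_iff, Matrix.SpecialLinearGroup.ext_iff, ← Matrix.ext_iff]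
  rfl

/-- An invariant of conjugation separating the classes. -/
def key (g : SG) : ZMod 3 × ZMod 3 × Bool × Bool :=
  (g.1.trace, (g.1 * g.1).trace, decide ((g.1 - 1) * (g.1 - 1) = 0), decide (g.1 * g.1 = 1))

theorem key_conj (h g : SG) : key (h * g * h⁻¹) = key g := by
  set A := g.1
  set B := h.1
  set C := (h⁻¹).1
  have hv : (h * g * h⁻¹).1 = B * A * C := rfl
  have hBC : B * C = 1 := congrArg Subtype.val (mul_inv_cancel h)
  have hCB : C * B = 1 := congrArg Subtype.val (inv_mul_cancel h)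
  have hm : ∀ X Y : Matrix (Fin 3) (Fin 3) (ZMod 3),
      B * X * C * (B * Y * C) = B * (X * Y) * C := fun X Y => by
    simp only [← mul_assoc]; rw [mul_assoc (B * X) C B, hCB, mul_one]
  have hz : ∀ X Y : Matrix (Fin 3) (Fin 3) (ZMod 3), B * X * C = B * Y * C ↔ X = Y := fun X Y => by
    refine ⟨fun e => ?_, fun e => by rw [e]⟩
    have e2 := congrArg (fun Z => C * Z * B) e
    simpa only [← mul_assoc, hCB, one_mul, mul_assoc _ C B, mul_one] using e2
  have ht : ∀ X : Matrix (Fin 3) (Fin 3) (ZMod 3), (B * X * C).trace = X.trace := fun X => by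
    rw [Matrix.trace_mul_comm, ← mul_assoc, hCB, one_mul]
  have e1 : B * A * C - 1 = B * (A - 1) * C := by
    rw [mul_sub, sub_mul, mul_one, hBC]
  have e0 := hz ((A - 1) * (A - 1)) 0
  rw [mul_zero, zero_mul] at e0
  have e3 := hz (A * A) 1
  rw [mul_one, hBC] at e3
  simp only [key, hv]
  rw [ht]
  simp only [hm, e1, ht, Prod.mk.injEq, decide_eq_decide]
  exact ⟨rfl, rfl, e0, e3⟩

theorem key_rep_injective : Function.Injective fun i => key (rep i) := by
  unfold Function.Injective; decide +kernel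

/-- The union of the classes of the representatives. -/
def classMap : (Σ i : Fin 12, SG ⧸ centralizer ({rep i} : Set SG)) → SG := fun x =>
  Quotient.liftOn' x.2 (fun h => h * rep x.1 * h⁻¹) fun a b hab => by
    have hc := mem_centralizer_singleton_iff.mp (QuotientGroup.leftRel_apply.mp hab)
    have e := congrArg (fun t => a * t * b⁻¹) hc
    simp only [mul_assoc, mul_inv_cancel_left, inv_mul_cancel_left, mul_inv_cancel, mul_one] at e
    simpa [mul_assoc] using e.symm

theorem index_rep (i : Fin 12) :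
    Nat.card (SG ⧸ centralizer ({rep i} : Set SG)) = 5616 / cent i := by
  have := Subgroup.card_eq_card_quotient_mul_card_subgroup (centralizer ({rep i} : Set SG))
  rw [card_SG, card_centralizer_rep] at this
  rw [this, Nat.mul_div_cancel]
  exact (by decide : ∀ j : Fin 12, 0 < cent j) i

theorem classMap_bijective : Function.Bijective classMap := by
  have hinj : Function.Injective classMap := by
    rintro ⟨i, a⟩ ⟨j, b⟩ h
    induction a using QuotientGroup.induction_on
    induction b using QuotientGroup.induction_on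
    rename_i a b
    change a * rep i * a⁻¹ = b * rep j * b⁻¹ at h
    have hij : i = j := key_rep_injective (by
      have := congrArg key h; rwa [key_conj, key_conj] at this)
    subst hij
    refine Sigma.ext rfl (heq_of_eq ?_)
    refine QuotientGroup.eq.mpr (mem_centralizer_singleton_iff.mpr ?_)
    have e := congrArg (fun t => a⁻¹ * t * b) h
    simp only [mul_assoc, inv_mul_cancel_left, inv_mul_cancel, mul_one] at e
    simpa [mul_assoc] using e.symm
  refine (Nat.bijective_iff_injective_and_card _).mpr ⟨hinj, ?_⟩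
  rw [Nat.card_sigma, card_SG]
  simp only [index_rep]
  decide

theorem exists_conj (g : SG) : ∃ i h, g = h * rep i * h⁻¹ := by
  obtain ⟨⟨i, a⟩, ha⟩ := classMap_bijective.2 g
  induction a using QuotientGroup.induction_on
  exact ⟨i, _, ha.symm⟩

theorem card_centralizer_conj (i : Fin 12) (h : SG) :
    Nat.card ↥(centralizer ({h * rep i * h⁻¹} : Set SG)) = cent i := by
  rw [← card_centralizer_rep i]
  refine Nat.card_congr ((MulAut.conj h).toEquiv.subtypeEquiv fun g => ?_).symm
  simp only [mem_centralizer_singleton_iff, MulEquiv.toEquiv_eq_coe, EquivLike.coe_coe,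
    MulAut.conj_apply, mul_assoc, inv_mul_cancel_left, mul_right_inj]
  rw [← mul_assoc g, ← mul_assoc (rep i), mul_left_inj]

theorem card_centralizer_eq {g : SG} {i : Fin 12} (hk : key g = key (rep i)) :
    Nat.card ↥(centralizer ({g} : Set SG)) = cent i := by
  obtain ⟨j, h, rfl⟩ := exists_conj g
  rw [key_conj] at hk
  rw [card_centralizer_conj, key_rep_injective hk]

theorem card_centralizer_le {g : SG} (hg : g ≠ 1) :
    Nat.card ↥(centralizer ({g} : Set SG)) ≤ 54 := by
  obtain ⟨i, h, rfl⟩ := exists_conj g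
  rw [card_centralizer_conj]
  have hi : i ≠ 0 := by rintro rfl; exact hg (by rw [rep_zero, mul_one, mul_inv_cancel])
  exact (by decide : ∀ j : Fin 12, j ≠ 0 → cent j ≤ 54) i hi

theorem card_filter_centralizer (n : ℕ) :
    Nat.card {g : SG // Nat.card ↥(centralizer ({g} : Set SG)) = n} =
      ∑ i with cent i = n, 5616 / cent i := by
  classical
  let e : {x : Σ i : Fin 12, SG ⧸ centralizer ({rep i} : Set SG) // cent x.1 = n} ≃
      {g : SG // Nat.card ↥(centralizer ({g} : Set SG)) = n} :=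
    (Equiv.ofBijective _ classMap_bijective).subtypeEquiv fun x => by
      obtain ⟨i, a⟩ := x
      induction a using QuotientGroup.induction_on
      rename_i a
      rw [← card_centralizer_conj i a]; rfl
  rw [← Nat.card_congr e, Nat.card_congr (Equiv.subtypeSigmaEquiv _ fun i => cent i = n),
    Nat.card_sigma]
  simp only [Nat.card_eq_fintype_card.symm, index_rep]
  exact (Finset.sum_subtype _ (fun i => by simp) fun i => 5616 / cent i).symm

theorem card_centralizer_13 :
    Nat.card {g : SG // Nat.card ↥(centralizer ({g} : Set SG)) = 13} = 1728 := by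
  rw [card_filter_centralizer]; decide

theorem card_centralizer_54 :
    Nat.card {g : SG // Nat.card ↥(centralizer ({g} : Set SG)) = 54} = 104 := by
  rw [card_filter_centralizer]; decide

end CfsgLib.Recognition.CommutingGraphPSL33
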