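import Mathlib.Algebra.Group.End
import Mathlib.Algebra.Group.Subgroup.Basic
import Mathlib.Data.Fintype.Perm
import Mathlib.Data.Fintype.Sum
import Mathlib.Data.Fin.VecNotation
import Mathlib.SetTheory.Cardinal.Finite
import Mathlib.Algebra.Group.Fin.Basic
import Mathlib.Tactic.FinCases
import Mathlib.GroupTheory.Perm.Basic

/-!
# The flags of the projective plane of order three

The plane is given by the difference set {0, 1, 5, 11} modulo 13.  A permutation of the 104
doubled flags preserving "same point or same line" induces an automorphism of the incidence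
graph, and the type preserving automorphisms number at most 5616.
-/

set_option autoImplicit false

namespace CfsgLib.Recognition.CommutingGraphPSL33

open Finset

/-- The point of a doubled flag. -/
def pt (i : Fin 104) : Fin 13 := ⟨i.1 / 8, by omega⟩

/-- The line of a doubled flag. -/
def ln (i : Fin 104) : Fin 13 :=
  pt i - (![0, 1, 5, 11] : Fin 4 → Fin 13) ⟨i.1 % 8 / 2, by omega⟩

/-- Incidence of a point with a line. -/
def inc (p l : Fin 13) : Bool := decide (p - l = 0 ∨ p - l = 1 ∨ p - l = 5 ∨ p - l = 11)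

theorem inc_pt_ln : ∀ i, inc (pt i) (ln i) = true := by decide +kernel

/-- Two doubled flags share their point or their line. -/
def adjF (i j : Fin 104) : Prop := pt i = pt j ∨ ln i = ln j

/-- Points and lines. -/
abbrev S := Fin 13 ⊕ Fin 13

/-- A doubled flag passes through a point or line. -/
def mem (s : S) (i : Fin 104) : Prop :=
  match s with
  | .inl p => pt i = p
  | .inr l => ln i = l

instance : ∀ s i, Decidable (mem s i)
  | .inl p, i => inferInstanceAs (Decidable (pt i = p))
  | .inr l, i => inferInstanceAs (Decidable (ln i = l))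

/-- Incidence in the incidence graph. -/
def incS : S → S → Bool
  | .inl p, .inr l => inc p l
  | .inr l, .inl p => inc p l
  | _, _ => false

theorem meet_iff : ∀ s t : S, (∃ i, mem s i ∧ mem t i) ↔ (s = t ∨ incS s t = true) := by
  decide +kernel

theorem same_type_iff : ∀ x y : S, x.isRight = y.isRight ↔
    (x = y ∨ ∃ z, z ≠ x ∧ z ≠ y ∧ incS x z = true ∧ incS z y = true) := by
  decide +kernel

theorem mem_ext : ∀ s t : S, (∀ i, mem s i ↔ mem t i) → s = t := by decide +kernel

/-- Every star is the common closed neighbourhood of two flags at distinct places. -/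
theorem exists_pair : ∀ s : S, ∃ a b, mem s a ∧ mem s b ∧ ¬ (pt a = pt b ∧ ln a = ln b) := by
  decide +kernel

theorem pair_star {a b : Fin 104} (hab : adjF a b) (hne : ¬ (pt a = pt b ∧ ln a = ln b)) :
    ∃ s, mem s a ∧ mem s b ∧ ∀ i, mem s i ↔ (adjF a i ∧ adjF b i) := by
  rcases hab with h | h
  · refine ⟨.inl (pt a), rfl, h.symm, fun i => ?_⟩
    have hl : ln a ≠ ln b := fun e => hne ⟨h, e⟩
    simp only [mem, adjF]
    constructor
    · exact fun e => ⟨.inl e.symm, .inl (h.symm.trans e.symm)⟩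
    · rintro ⟨h1 | h1, h2 | h2⟩
      exacts [h1.symm, h1.symm, h2.symm.trans h.symm, absurd (h1.trans h2.symm) hl]
  · refine ⟨.inr (ln a), rfl, h.symm, fun i => ?_⟩
    have hp : pt a ≠ pt b := fun e => hne ⟨e, h⟩
    simp only [mem, adjF]
    constructor
    · exact fun e => ⟨.inr e.symm, .inr (h.symm.trans e.symm)⟩
    · rintro ⟨h1 | h1, h2 | h2⟩
      exacts [absurd (h1.trans h2.symm) hp, h2.symm.trans h.symm, h1.symm, h1.symm]

theorem mem_adj {s : S} {a b : Fin 104} (ha : mem s a) (hb : mem s b) : adjF a b := by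
  cases s
  · exact .inl (ha.trans hb.symm)
  · exact .inr (ha.trans hb.symm)

theorem mem_iff_adj {s : S} {a b : Fin 104} (ha : mem s a) (hb : mem s b)
    (hne : ¬ (pt a = pt b ∧ ln a = ln b)) (i : Fin 104) : mem s i ↔ (adjF a i ∧ adjF b i) := by
  refine ⟨fun hi => ⟨mem_adj ha hi, mem_adj hb hi⟩, ?_⟩
  cases s with
  | inl p =>
    have hl : ln a ≠ ln b := fun e => hne ⟨ha.trans hb.symm, e⟩
    rintro ⟨h1 | h1, h2 | h2⟩
    exacts [h1.symm.trans ha, h1.symm.trans ha, h2.symm.trans hb, absurd (h1.trans h2.symm) hl]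
  | inr l =>
    have hp : pt a ≠ pt b := fun e => hne ⟨e, ha.trans hb.symm⟩
    rintro ⟨h1 | h1, h2 | h2⟩
    exacts [absurd (h1.trans h2.symm) hp, h2.symm.trans hb, h1.symm.trans ha, h1.symm.trans ha]

theorem adjF_symm {a b : Fin 104} (h : adjF a b) : adjF b a :=
  h.elim (fun e => .inl e.symm) (fun e => .inr e.symm)

/-- Equality of the closed neighbourhoods of two flags says that they lie on one flag. -/
theorem twin_iff : ∀ a b, (∀ i, adjF a i ↔ adjF b i) ↔ (pt a = pt b ∧ ln a = ln b) := by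
  intro a b
  refine ⟨fun h => ?_, fun h i => by simp only [adjF, h.1, h.2]⟩
  by_contra hne
  obtain ⟨s, sa, sb, hs⟩ := pair_star (adjF_symm ((h a).mp (Or.inl rfl))) hne
  obtain ⟨c, d, hc, hd, hcd⟩ := exists_pair (match s with
    | .inl _ => (.inr (ln a) : S)
    | .inr _ => .inl (pt a))
  have key : ∀ i, adjF a i → mem s i := fun i hi => (hs i).mpr ⟨hi, (h i).mp hi⟩
  cases s with
  | inl p =>
    have e1 := key c (Or.inr hc.symm)
    have e2 := key d (Or.inr hd.symm)
    exact hcd ⟨e1.trans e2.symm, hc.trans hd.symm⟩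
  | inr l =>
    have e1 := key c (Or.inl hc.symm)
    have e2 := key d (Or.inl hd.symm)
    exact hcd ⟨hc.trans hd.symm, e1.trans e2.symm⟩

/-- Permutations of the doubled flags preserving the relation. -/
def AdjAut : Subgroup (Equiv.Perm (Fin 104)) where
  carrier := {σ | ∀ i j, adjF (σ i) (σ j) ↔ adjF i j}
  one_mem' := fun _ _ => Iff.rfl
  mul_mem' := fun {σ τ} hσ hτ i j => (hσ _ _).trans (hτ i j)
  inv_mem' := fun {σ} hσ i j => by
    simpa using (hσ (σ⁻¹ i) (σ⁻¹ j)).symm

theorem exists_image {σ : Equiv.Perm (Fin 104)} (hσ : σ ∈ AdjAut) (s : S) :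
    ∃ t, ∀ i, mem t (σ i) ↔ mem s i := by
  obtain ⟨a, b, ha, hb, hne⟩ := exists_pair s
  have hne' : ¬ (pt (σ a) = pt (σ b) ∧ ln (σ a) = ln (σ b)) := fun e => hne
    ((twin_iff a b).mp fun i => by
      rw [← hσ a i, ← hσ b i]; exact (twin_iff _ _).mpr e (σ i))
  obtain ⟨t, -, -, ht⟩ := pair_star ((hσ a b).mpr (mem_adj ha hb)) hne'
  exact ⟨t, fun i => by rw [ht, hσ, hσ, mem_iff_adj ha hb hne]⟩

/-- The image of a point or line. -/
noncomputable def img (σ : AdjAut) (s : S) : S := (exists_image σ.2 s).choose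

theorem mem_img (σ : AdjAut) (s : S) (i : Fin 104) : mem (img σ s) (σ.1 i) ↔ mem s i :=
  (exists_image σ.2 s).choose_spec i

theorem img_eq {σ : AdjAut} {s t : S} (h : ∀ i, mem t (σ.1 i) ↔ mem s i) : img σ s = t := by
  refine mem_ext _ _ fun j => ?_
  obtain ⟨i, rfl⟩ := σ.1.surjective j
  rw [mem_img, h]

theorem img_mul (σ τ : AdjAut) (s : S) : img (σ * τ) s = img σ (img τ s) :=
  img_eq fun i => by rw [Subgroup.coe_mul, Equiv.Perm.mul_apply, mem_img, mem_img]

theorem img_one (s : S) : img 1 s = s := img_eq fun _ => Iff.rfl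

/-- The action on points and lines. -/
noncomputable def toPerm : AdjAut →* Equiv.Perm S where
  toFun σ :=
    { toFun := img σ
      invFun := img σ⁻¹
      left_inv := fun s => by rw [← img_mul, inv_mul_cancel, img_one]
      right_inv := fun s => by rw [← img_mul, mul_inv_cancel, img_one] }
  map_one' := Equiv.ext img_one
  map_mul' σ τ := Equiv.ext (img_mul σ τ)

/-- The automorphisms of the incidence graph. -/
def IncAut : Subgroup (Equiv.Perm S) where
  carrier := {π | ∀ x y, incS (π x) (π y) = incS x y}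
  one_mem' := fun _ _ => rfl
  mul_mem' := fun {σ τ} hσ hτ x y => (hσ _ _).trans (hτ x y)
  inv_mem' := fun {σ} hσ x y => by
    simpa using (hσ (σ⁻¹ x) (σ⁻¹ y)).symm

theorem incS_self : ∀ x, incS x x = false := by decide

theorem toPerm_mem (σ : AdjAut) : toPerm σ ∈ IncAut := fun x y => by
  change incS (img σ x) (img σ y) = incS x y
  have hinj : img σ x = img σ y ↔ x = y := (toPerm σ).injective.eq_iff
  have h : (img σ x = img σ y ∨ incS (img σ x) (img σ y) = true) ↔ (x = y ∨ incS x y = true) := by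
    rw [← meet_iff, ← meet_iff]
    constructor
    · rintro ⟨j, h1, h2⟩
      obtain ⟨i, rfl⟩ := σ.1.surjective j
      exact ⟨i, (mem_img σ x i).mp h1, (mem_img σ y i).mp h2⟩
    · rintro ⟨i, h1, h2⟩
      exact ⟨σ.1 i, (mem_img σ x i).mpr h1, (mem_img σ y i).mpr h2⟩
  by_cases e : x = y
  · subst e; rw [incS_self, incS_self]
  · have e' : img σ x ≠ img σ y := fun h' => e (hinj.mp h')
    simp only [e, e', false_or] at h
    exact Bool.eq_iff_iff.mpr h

theorem type_eq (π : IncAut) (x y : S) :
    (π.1 x).isRight = (π.1 y).isRight ↔ x.isRight = y.isRight := by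
  rw [same_type_iff, same_type_iff, π.1.injective.eq_iff]
  refine or_congr Iff.rfl ⟨?_, ?_⟩
  · rintro ⟨z, h1, h2, h3, h4⟩
    obtain ⟨w, rfl⟩ := π.1.surjective z
    rw [π.2] at h3 h4
    exact ⟨w, fun e => h1 (e ▸ rfl), fun e => h2 (e ▸ rfl), h3, h4⟩
  · rintro ⟨z, h1, h2, h3, h4⟩
    exact ⟨π.1 z, fun e => h1 (π.1.injective e), fun e => h2 (π.1.injective e),
      by rw [π.2]; exact h3, by rw [π.2]; exact h4⟩

/-- One representative of each type. -/
def side (b : Bool) : S := bif b then .inr 0 else .inl 0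

theorem isRight_side : ∀ b, (side b).isRight = b := by decide

/-- The map on the two types. -/
def typ (π : IncAut) (b : Bool) : Bool := (π.1 (side b)).isRight

theorem typ_spec (π : IncAut) (x : S) : typ π x.isRight = (π.1 x).isRight :=
  (type_eq π _ _).mpr (isRight_side _)

/-- The action on the two types. -/
def typeHom : IncAut →* Equiv.Perm Bool where
  toFun π :=
    { toFun := typ π
      invFun := typ π⁻¹
      left_inv := fun b => by
        show typ π⁻¹ (π.1 (side b)).isRight = b
        rw [typ_spec]; simp [isRight_side]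
      right_inv := fun b => by
        show typ π ((π⁻¹).1 (side b)).isRight = b
        rw [typ_spec]; simp [isRight_side] }
  map_one' := Equiv.ext fun b => isRight_side b
  map_mul' π ρ := Equiv.ext fun b => (typ_spec π _).symm

/-- The type preserving automorphisms. -/
abbrev A0 : Subgroup IncAut := typeHom.ker

theorem isRight_A0 (π : A0) (x : S) : (π.1.1 x).isRight = x.isRight := by
  rw [← typ_spec]
  exact Equiv.congr_fun (MonoidHom.mem_ker.mp π.2) x.isRight

/-- The point image under a type preserving automorphism. -/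
def pimg (π : A0) (p : Fin 13) : Fin 13 :=
  (π.1.1 (.inl p)).elim id id

theorem pimg_spec (π : A0) (p : Fin 13) : π.1.1 (.inl p) = .inl (pimg π p) := by
  have h := isRight_A0 π (.inl p)
  unfold pimg
  cases hx : π.1.1 (.inl p) with
  | inl q => rfl
  | inr q => rw [hx] at h; simp at h

theorem fixed_step {τ : Equiv.Perm S} (hτ : τ ∈ IncAut) {x y z : S} (hx : τ x = x) (hy : τ y = y)
    (h : incS x z = true ∧ incS y z = true ∧
      ∀ w, incS x w = true → incS y w = true → w = z) : τ z = z := by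
  refine h.2.2 _ ?_ ?_
  · have := hτ x z; rw [hx] at this; rw [this]; exact h.1
  · have := hτ y z; rw [hy] at this; rw [this]; exact h.2.1

theorem eq_one_of_frame {τ : Equiv.Perm S} (hτ : τ ∈ IncAut) (h0 : τ (.inl 0) = .inl 0)
    (h1 : τ (.inl 1) = .inl 1) (h2 : τ (.inl 2) = .inl 2) (h4 : τ (.inl 4) = .inl 4) : τ = 1 := by
  have L : ∀ {a b : Fin 13} (l : Fin 13), τ (.inl a) = .inl a → τ (.inl b) = .inl b →
      (incS (.inl a) (.inr l) = true ∧ incS (.inl b) (.inr l) = true ∧
        ∀ w, incS (.inl a) w = true → incS (.inl b) w = true → w = .inr l) →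
      τ (.inr l) = .inr l := fun l ha hb h => fixed_step hτ ha hb h
  have P : ∀ {a b : Fin 13} (p : Fin 13), τ (.inr a) = .inr a → τ (.inr b) = .inr b →
      (incS (.inr a) (.inl p) = true ∧ incS (.inr b) (.inl p) = true ∧
        ∀ w, incS (.inr a) w = true → incS (.inr b) w = true → w = .inl p) →
      τ (.inl p) = .inl p := fun p ha hb h => fixed_step hτ ha hb h
  have l0 := L 0 h0 h1 (by decide)
  have l4 := L 4 h2 h4 (by decide)
  have p5 := P 5 l0 l4 (by decide)
  have l2 := L 2 h0 h2 (by decide)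
  have l3 := L 3 h1 h4 (by decide)
  have p3 := P 3 l2 l3 (by decide)
  have l12 := L 12 h0 h4 (by decide)
  have l1 := L 1 h1 h2 (by decide)
  have p12 := P 12 l12 l1 (by decide)
  have l11 := L 11 p3 p12 (by decide)
  have p11 := P 11 l0 l11 (by decide)
  have l6 := L 6 h4 p11 (by decide)
  have p7 := P 7 l2 l6 (by decide)
  have l9 := L 9 h1 p7 (by decide)
  have p10 := P 10 l12 l9 (by decide)
  have p6 := P 6 l1 l6 (by decide)
  have l8 := L 8 h0 p6 (by decide)
  have p8 := P 8 l8 l3 (by decide)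
  have p9 := P 9 l8 l9 (by decide)
  have hp : ∀ p, τ (.inl p) = .inl p := by
    intro p
    fin_cases p
    exacts [h0, h1, h2, p3, h4, p5, p6, p7, p8, p9, p10, p11, p12]
  refine Equiv.ext fun s => ?_
  cases s with
  | inl p => exact hp p
  | inr l =>
    exact L l (hp l) (hp (l + 1)) ((by decide +kernel : ∀ l : Fin 13,
      incS (.inl l) (.inr l) = true ∧ incS (.inl (l + 1)) (.inr l) = true ∧
        ∀ w, incS (.inl l) w = true → incS (.inl (l + 1)) w = true → w = .inr l) l)

/-- Three points on a line. -/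
def Col (a b c : Fin 13) : Prop := ∃ l, inc a l = true ∧ inc b l = true ∧ inc c l = true

instance : ∀ a b c, Decidable (Col a b c) := fun _ _ _ =>
  inferInstanceAs (Decidable (∃ _, _))

/-- Completions of the point 0 to a frame. -/
def Frame (q : Fin 13 × Fin 13 × Fin 13) : Prop :=
  q.1 ≠ 0 ∧ q.2.1 ≠ 0 ∧ q.2.2 ≠ 0 ∧ q.1 ≠ q.2.1 ∧ q.1 ≠ q.2.2 ∧ q.2.1 ≠ q.2.2 ∧
    ¬ Col 0 q.1 q.2.1 ∧ ¬ Col 0 q.1 q.2.2 ∧ ¬ Col 0 q.2.1 q.2.2 ∧ ¬ Col q.1 q.2.1 q.2.2

instance : DecidablePred Frame := fun _ => inferInstanceAs (Decidable (_ ∧ _))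

theorem card_frame : (univ.filter Frame).card = 432 := by decide +kernel

theorem col_translate {a b c : Fin 13} (t : Fin 13) : Col (a - t) (b - t) (c - t) ↔ Col a b c := by
  have h : ∀ x l : Fin 13, inc (x - t) l = inc x (l + t) := fun x l => by
    simp only [inc, sub_sub, add_comm t l]
  constructor
  · rintro ⟨l, h1, h2, h3⟩
    exact ⟨l + t, by rwa [← h], by rwa [← h], by rwa [← h]⟩
  · rintro ⟨l, h1, h2, h3⟩
    exact ⟨l - t, by rwa [h, sub_add_cancel], by rwa [h, sub_add_cancel],
      by rwa [h, sub_add_cancel]⟩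

theorem pimg_injective (π : A0) : Function.Injective (pimg π) := fun p q h => by
  have := congrArg (Sum.inl : Fin 13 → S) h
  rw [← pimg_spec, ← pimg_spec] at this
  exact Sum.inl.inj (π.1.1.injective this)

theorem col_pimg (π : A0) {a b c : Fin 13} (h : Col (pimg π a) (pimg π b) (pimg π c)) :
    Col a b c := by
  obtain ⟨l, h1, h2, h3⟩ := h
  obtain ⟨x, hx⟩ := π.1.1.surjective (.inr l)
  have hx' := isRight_A0 π x
  rw [hx] at hx'
  cases x with
  | inl p => simp at hx'
  | inr m =>
    have key : ∀ p, inc (pimg π p) l = true → inc p m = true := fun p hp => by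
      have e := π.1.2 (.inl p) (.inr m)
      rw [pimg_spec, hx] at e
      change inc (pimg π p) l = inc p m at e
      rw [← e]; exact hp
    exact ⟨m, key _ h1, key _ h2, key _ h3⟩

theorem frame_image (π : A0) :
    Frame (pimg π 1 - pimg π 0, pimg π 2 - pimg π 0, pimg π 4 - pimg π 0) := by
  have hi := pimg_injective π
  have d : ¬ Col 0 1 2 ∧ ¬ Col 0 1 4 ∧ ¬ Col 0 2 4 ∧ ¬ Col 1 2 4 := by decide
  have z : ∀ b c, Col 0 (pimg π b - pimg π 0) (pimg π c - pimg π 0) → Col 0 b c := fun b c h => by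
    exact col_pimg π ((col_translate (pimg π 0)).mp (by rwa [sub_self]))
  have ne : ∀ b c : Fin 13, b ≠ c → pimg π b - pimg π 0 ≠ pimg π c - pimg π 0 := fun b c hbc e =>
    hbc (hi (sub_left_inj.mp e))
  have ne0 : ∀ b : Fin 13, b ≠ 0 → pimg π b - pimg π 0 ≠ 0 := fun b hb e =>
    hb (hi (sub_eq_zero.mp e))
  exact ⟨ne0 1 (by decide), ne0 2 (by decide), ne0 4 (by decide), ne 1 2 (by decide),
    ne 1 4 (by decide), ne 2 4 (by decide), fun h => d.1 (z _ _ h), fun h => d.2.1 (z _ _ h),
    fun h => d.2.2.1 (z _ _ h), fun h => d.2.2.2 (col_pimg π ((col_translate _).mp h))⟩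

theorem card_A0_le : Nat.card A0 ≤ 5616 := by
  classical
  let F : A0 → Fin 13 × {q : Fin 13 × Fin 13 × Fin 13 // Frame q} :=
    fun π => (pimg π 0, ⟨_, frame_image π⟩)
  have hF : Function.Injective F := fun π ρ h => by
    have e0 : pimg π 0 = pimg ρ 0 := congrArg Prod.fst h
    have e := congrArg (fun x => x.2.1) h
    simp only [F, Prod.mk.injEq] at e
    rw [e0] at e
    simp only [sub_left_inj] at e
    have key : ∀ p, pimg π p = pimg ρ p → (ρ⁻¹ * π : A0).1.1 (.inl p) = .inl p := fun p hp => by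
      show (ρ.1.1)⁻¹ (π.1.1 (.inl p)) = .inl p
      rw [pimg_spec, hp, ← pimg_spec]
      exact ρ.1.1.symm_apply_apply _
    have := eq_one_of_frame (ρ⁻¹ * π : A0).1.2 (key _ e0) (key _ e.1) (key _ e.2.1) (key _ e.2.2)
    exact (inv_mul_eq_one.mp (Subtype.ext (Subtype.ext this) : ρ⁻¹ * π = 1)).symm
  refine (Nat.card_le_card_of_injective F hF).trans ?_
  rw [Nat.card_prod, Nat.card_eq_fintype_card, Nat.card_eq_fintype_card, Fintype.card_fin,
    Fintype.card_subtype, card_frame]

end CfsgLib.Recognition.CommutingGraphPSL33
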