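import Cfsg.Agent.Lib.Recognition.CommutingGraphPSL33.Census
import Cfsg.Agent.Lib.Recognition.CommutingGraphPSL33.Geometry

/-!
# The transvections of SL(3,3) as doubled flags
-/

set_option autoImplicit false

namespace CfsgLib.Recognition.CommutingGraphPSL33

open Subgroup Matrix

/-- A vector spanning each point. -/
def vv : Fin 13 → Fin 3 → ZMod 3 :=
  ![![1,0,0], ![0,1,0], ![0,0,1], ![1,0,2], ![1,2,2], ![1,2,0], ![0,1,2], ![1,0,1], ![1,1,2],
    ![1,2,1], ![1,1,1], ![1,1,0], ![0,1,1]]

/-- A functional vanishing on each line. -/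
def ph : Fin 13 → Fin 3 → ZMod 3 :=
  ![![0,0,1], ![1,0,0], ![0,1,0], ![1,0,1], ![1,1,0], ![1,1,1], ![1,2,2], ![1,1,2], ![0,1,1],
    ![1,0,2], ![1,2,0], ![1,2,1], ![0,1,2]]

/-- The scalar of a doubled flag. -/
def sc (i : Fin 104) : ZMod 3 := if i.1 % 2 = 0 then 1 else 2

/-- The matrix of the transvection of a doubled flag. -/
def Tmat (i : Fin 104) : Matrix (Fin 3) (Fin 3) (ZMod 3) :=
  1 + sc i • vecMulVec (vv (pt i)) (ph (ln i))

theorem Tmat_det : ∀ i, (Tmat i).det = 1 := by
  intro i; rw [Matrix.det_fin_three]; revert i; decide +kernel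

/-- The transvection of a doubled flag. -/
def T (i : Fin 104) : SG := ⟨Tmat i, Tmat_det i⟩

theorem key_T : ∀ i, key (T i) = key (rep 1) := by decide +kernel

theorem ofMat_T_injective : ∀ i j, ofMat (Tmat i) = ofMat (Tmat j) → i = j := by decide +kernel

theorem flags_commute : ∀ p l : Fin 13, inc p l = true → ∀ q m : Fin 13, inc q m = true →
    ((∀ r s : Fin 3, (ph l ⬝ᵥ vv q) * (vv p r * ph m s) = (ph m ⬝ᵥ vv p) * (vv q r * ph l s)) ↔
      (p = q ∨ l = m)) := by
  decide +kernel

theorem T_commute (i j : Fin 104) : T i * T j = T j * T i ↔ adjF i j := by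
  rw [adjF, ← flags_commute _ _ (inc_pt_ln i) _ _ (inc_pt_ln j)]
  refine Iff.trans (⟨fun h => congrArg Subtype.val h, fun h => Subtype.ext h⟩ :
    _ ↔ Tmat i * Tmat j = Tmat j * Tmat i) ?_
  unfold Tmat
  set N := vecMulVec (vv (pt i)) (ph (ln i)) with hN
  set M := vecMulVec (vv (pt j)) (ph (ln j)) with hM
  have h1 : ∀ k, sc k * sc k = 1 := fun k => by unfold sc; split <;> decide
  have e : (1 + sc i • N) * (1 + sc j • M) = (1 + sc j • M) * (1 + sc i • N) ↔ N * M = M * N := by
    simp only [add_mul, mul_add, one_mul, mul_one, Matrix.smul_mul, Matrix.mul_smul, smul_smul]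
    constructor
    · intro h
      have h2 : (sc j * sc i) • (N * M) = (sc i * sc j) • (M * N) := by
        linear_combination (norm := skip) h
        abel
      have h3 := congrArg (fun X => (sc j * sc i) • X) h2
      simp only [smul_smul, mul_comm (sc i) (sc j)] at h3
      rwa [mul_mul_mul_comm, h1, h1, one_mul, one_smul, one_smul] at h3
    · intro h; rw [h, mul_comm (sc i) (sc j)]; abel
  rw [e, hN, hM, vecMulVec_mul_vecMulVec, vecMulVec_mul_vecMulVec, ← Matrix.ext_iff]
  simp only [vecMulVec_apply, Matrix.smul_apply, smul_eq_mul, Pi.smul_apply]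
  refine forall₂_congr fun r s => ?_
  constructor <;> intro h <;> linear_combination h

theorem T_injective : Function.Injective T := fun i j h =>
  ofMat_T_injective i j (congrArg (fun g : SG => ofMat g.1) h)

theorem card_centralizer_T (i : Fin 104) :
    Nat.card ↥(centralizer ({T i} : Set SG)) = 54 := by
  rw [card_centralizer_eq (key_T i)]; rfl

/-- The elements with centraliser of order 54 are the transvections. -/
noncomputable def TEquiv : Fin 104 ≃ {g : SG // Nat.card ↥(centralizer ({g} : Set SG)) = 54} :=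
  Equiv.ofBijective (fun i => ⟨T i, card_centralizer_T i⟩)
    ((Nat.bijective_iff_injective_and_card _).mpr
      ⟨fun i j h => T_injective (congrArg Subtype.val h),
        by rw [card_centralizer_54, Nat.card_eq_fintype_card, Fintype.card_fin]⟩)

theorem TEquiv_apply (i : Fin 104) : (TEquiv i).1 = T i := rfl

end CfsgLib.Recognition.CommutingGraphPSL33
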