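import Cfsg.Agent.Lib.Recognition.CommutingGraphPSL33.Simple
import Cfsg.Agent.Lib.Recognition.CommutingGraphPSL33.Transvections
import Mathlib.Logic.Equiv.Option

/-!
# A group with the commuting graph of PSL(3,3) is PSL(3,3)
-/

set_option autoImplicit false

namespace CfsgLib.Recognition.CommutingGraphPSL33

open Subgroup

variable {H : Type*} [Group H] [Finite H]

section
variable (F : H ≃ SG) (hF : ∀ x y : H, F x * F y = F y * F x ↔ x * y = y * x) (hF1 : F 1 = 1)

include hF in
theorem card_centralizer_transport (h : H) :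
    Nat.card ↥(centralizer ({h} : Set H)) = Nat.card ↥(centralizer ({F h} : Set SG)) :=
  Nat.card_congr (F.subtypeEquiv fun g => by
    simp only [mem_centralizer_singleton_iff]; exact (hF g h).symm)

include hF hF1 in
theorem nonempty_mulEquiv_A0 : Nonempty (H ≃* A0) := by
  classical
  have hcard : Nat.card H = 5616 := (Nat.card_congr F).trans card_SG
  have hle : ∀ h : H, h ≠ 1 → Nat.card ↥(centralizer ({h} : Set H)) ≤ 54 := fun h hh => by
    rw [card_centralizer_transport F hF]
    exact card_centralizer_le fun e => hh (F.injective (e.trans hF1.symm))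
  have h13 : Nat.card {h : H // Nat.card ↥(centralizer ({h} : Set H)) = 13} = 1728 := by
    rw [← card_centralizer_13]
    exact Nat.card_congr (F.subtypeEquiv fun h => by rw [card_centralizer_transport F hF])
  haveI := isSimple hcard hle h13
  let e : Fin 104 ≃ {h : H // Nat.card ↥(centralizer ({h} : Set H)) = 54} :=
    TEquiv.trans (F.subtypeEquiv fun h => by rw [card_centralizer_transport F hF]).symm
  have he : ∀ i, F (e i).1 = T i := fun i => by
    simp [e, TEquiv_apply]
  have hadj : ∀ i j, (e i).1 * (e j).1 = (e j).1 * (e i).1 ↔ adjF i j := fun i j => by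
    rw [← hF, he, he, T_commute]
  let c : H → Equiv.Perm {h : H // Nat.card ↥(centralizer ({h} : Set H)) = 54} := fun g =>
    (MulAut.conj g).toEquiv.subtypeEquiv fun h => by
      have : Nat.card ↥(centralizer ({g * h * g⁻¹} : Set H)) =
          Nat.card ↥(centralizer ({h} : Set H)) :=
        (Nat.card_congr ((MulAut.conj g).toEquiv.subtypeEquiv fun x => by
          simp only [mem_centralizer_singleton_iff, MulEquiv.toEquiv_eq_coe, EquivLike.coe_coe,
            MulAut.conj_apply, mul_assoc, inv_mul_cancel_left, mul_right_inj]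
          rw [← mul_assoc x, ← mul_assoc h, mul_left_inj])).symm
      simp only [MulEquiv.toEquiv_eq_coe, EquivLike.coe_coe, MulAut.conj_apply, this]
  have hc : ∀ g h, (c g h).1 = g * h.1 * g⁻¹ := fun g h => rfl
  let σ : H →* Equiv.Perm (Fin 104) :=
    { toFun := fun g => (e.trans (c g)).trans e.symm
      map_one' := Equiv.ext fun i => by
        simp only [Equiv.trans_apply, Equiv.Perm.one_apply]
        rw [e.symm_apply_eq]; exact Subtype.ext (by rw [hc]; simp)
      map_mul' := fun g g' => Equiv.ext fun i => by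
        simp only [Equiv.trans_apply, Equiv.Perm.mul_apply, Equiv.apply_symm_apply,
          EmbeddingLike.apply_eq_iff_eq]
        exact Subtype.ext (by simp only [hc]; group) }
  have hσ : ∀ g i, (e (σ g i)).1 = g * (e i).1 * g⁻¹ := fun g i => by
    simp only [σ, MonoidHom.coe_mk, OneHom.coe_mk, Equiv.trans_apply, Equiv.apply_symm_apply, hc]
  have hσA : ∀ g, σ g ∈ AdjAut := fun g i j => by
    rw [← hadj, ← hadj, hσ, hσ]
    constructor <;> intro h
    · have := congrArg (fun t => g⁻¹ * t * g) h
      simpa [mul_assoc] using this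
    · have := congrArg (fun t => g * t * g⁻¹) h
      simpa [mul_assoc] using this
  let ψ : H →* IncAut :=
    (toPerm.comp (σ.codRestrict AdjAut hσA)).codRestrict IncAut fun g => toPerm_mem _
  have hinj : Function.Injective ψ := by
    rw [← MonoidHom.ker_eq_bot_iff]
    refine (IsSimpleGroup.eq_bot_or_eq_top_of_normal ψ.ker inferInstance).resolve_right fun htop => ?_
    set P : Set H := {x | ∃ i, mem (.inl 0) i ∧ x = (e i).1}
    have hconj : ∀ g : H, ∀ x ∈ P, g * x * g⁻¹ ∈ P := by
      rintro g x ⟨i, hi, rfl⟩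
      refine ⟨σ g i, ?_, (hσ g i).symm⟩
      have hk : ψ g = 1 := MonoidHom.mem_ker.mp (htop ▸ mem_top g)
      have := congrArg (fun π : IncAut => π.1 (.inl 0)) hk
      change img ⟨σ g, hσA g⟩ (.inl 0) = .inl 0 at this
      rw [← this]
      exact (mem_img _ _ i).mpr hi
    haveI hnormal : (closure P).Normal := ⟨fun n hn g => by
      induction hn using closure_induction with
      | mem x hx => exact subset_closure (hconj g x hx)
      | one => simp
      | mul a b _ _ iha ihb =>
        have : g * (a * b) * g⁻¹ = g * a * g⁻¹ * (g * b * g⁻¹) := by group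
        rw [this]; exact mul_mem iha ihb
      | inv a _ iha =>
        have : g * a⁻¹ * g⁻¹ = (g * a * g⁻¹)⁻¹ := by group
        rw [this]; exact inv_mem iha⟩
    have hcomm : IsMulCommutative (closure P) := Subgroup.isMulCommutative_closure (by
      rintro x ⟨i, hi, rfl⟩ y ⟨j, hj, rfl⟩
      exact (hadj i j).mpr (mem_adj hi hj))
    have hx0 : (e 0).1 ∈ closure P := subset_closure ⟨0, rfl, rfl⟩
    have hx1 : (e 0).1 ≠ 1 := fun h => by
      have := (e 0).2
      rw [h, show centralizer ({1} : Set H) = ⊤ from
        eq_top_iff.mpr fun g _ => mem_centralizer_singleton_iff.mpr (by simp), card_top, hcard] at this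
      norm_num at this
    rcases IsSimpleGroup.eq_bot_or_eq_top_of_normal (closure P) hnormal with h0 | h1
    · rw [h0, mem_bot] at hx0; exact hx1 hx0
    · have hC : centralizer ({(e 0).1} : Set H) = ⊤ := eq_top_iff.mpr fun g _ => by
        refine mem_centralizer_singleton_iff.mpr ?_
        exact congrArg Subtype.val
          (hcomm.is_comm.comm (⟨g, h1 ▸ mem_top g⟩ : closure P) ⟨(e 0).1, hx0⟩)
      have := (e 0).2
      rw [hC, card_top, hcard] at this
      norm_num at this
  have hA0 : ∀ g, ψ g ∈ A0 := by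
    intro g
    rcases IsSimpleGroup.eq_bot_or_eq_top_of_normal (typeHom.comp ψ).ker inferInstance with h0 | h1
    · exfalso
      have := Nat.card_le_card_of_injective _ ((MonoidHom.ker_eq_bot_iff _).mp h0)
      rw [hcard, Nat.card_perm, Nat.card_eq_fintype_card, Fintype.card_bool] at this
      exact absurd this (by decide)
    · exact MonoidHom.mem_ker.mpr (MonoidHom.mem_ker.mp (h1 ▸ mem_top g : g ∈ (typeHom.comp ψ).ker))
  have hinj' : Function.Injective (ψ.codRestrict A0 hA0) := fun x y h =>
    hinj (congrArg Subtype.val h)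
  refine ⟨MulEquiv.ofBijective _ ((Nat.bijective_iff_injective_and_card _).mpr ⟨hinj', ?_⟩)⟩
  have h1 := Nat.card_le_card_of_injective _ hinj'
  have h2 := card_A0_le
  rw [hcard] at h1 ⊢
  omega

end

/-- The commuting graph determines SL(3,3). -/
theorem nonempty_mulEquiv_SG (f : {h : H // h ≠ 1} ≃ {g : SG // g ≠ 1})
    (hf : ∀ x y : {h : H // h ≠ 1}, (x : H) * y = y * x ↔ (f x : SG) * f y = f y * f x) :
    Nonempty (H ≃* SG) := by
  classical
  let F : H ≃ SG :=
    (Equiv.optionSubtypeNe (1 : H)).symm.trans ((Equiv.optionCongr f).trans (Equiv.optionSubtypeNe 1))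
  have h1 : F 1 = 1 := by simp [F]
  have hne : ∀ x (hx : x ≠ 1), F x = (f ⟨x, hx⟩ : SG) := fun x hx => by
    simp [F, hx]
  have hF : ∀ x y : H, F x * F y = F y * F x ↔ x * y = y * x := by
    intro x y
    by_cases hx : x = 1
    · subst hx; simp [h1]
    by_cases hy : y = 1
    · subst hy; simp [h1]
    rw [hne x hx, hne y hy]
    exact (hf ⟨x, hx⟩ ⟨y, hy⟩).symm
  obtain ⟨a⟩ := nonempty_mulEquiv_A0 F hF h1
  obtain ⟨b⟩ := nonempty_mulEquiv_A0 (Equiv.refl SG) (fun _ _ => Iff.rfl) rfl
  exact ⟨a.trans b.symm⟩

end CfsgLib.Recognition.CommutingGraphPSL33
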