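import Mathlib.GroupTheory.Sylow
import Mathlib.Tactic.NormNum.Prime
import Mathlib.GroupTheory.SpecificGroups.Cyclic
import Mathlib.Tactic.Group
import Mathlib.GroupTheory.Transfer
import Mathlib.GroupTheory.PGroup
import Mathlib.GroupTheory.Subgroup.Simple
import Mathlib.GroupTheory.GroupAction.ConjAct

/-!
# A group of order 5616 with the centraliser orders of PSL(3,3) is simple
-/

set_option autoImplicit false

namespace CfsgLib.Recognition.CommutingGraphPSL33

open Subgroup

variable {H : Type*} [Group H] [Finite H]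

theorem card_sylow_eq {G : Type*} [Group G] [Finite G] {p a b : ℕ} [hp : Fact p.Prime]
    (hG : Nat.card G = p ^ a * b) (hb : ¬ p ∣ b) (Q : Sylow p G) : Nat.card Q = p ^ a := by
  rw [Q.card_eq_multiplicity, hG, Nat.factorization_mul (pow_ne_zero _ hp.out.ne_zero)
    (fun e => hb (by rw [e]; exact dvd_zero p)), Nat.factorization_pow]
  simp [hp.out.factorization_self, Nat.factorization_eq_zero_of_not_dvd hb]

theorem card_dvd_modEq (n m : ℕ) (hm : n ∣ m) (h : n ≡ 1 [MOD 13]) (hm0 : m ≠ 0) :
    n ∈ (m.divisors.filter fun d => d % 13 = 1) :=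
  Finset.mem_filter.mpr ⟨Nat.mem_divisors.mpr ⟨hm, hm0⟩, h⟩

/-- An element of order 13 normalising `K` and centralising only 1 in it. -/
theorem modEq_one_of_fpf {y : H} (hy : orderOf y = 13) (K : Subgroup H)
    (hK : y ∈ normalizer (K : Set H)) (hf : ∀ k ∈ K, y * k = k * y → k = 1) :
    Nat.card K ≡ 1 [MOD 13] := by
  haveI : Fact (Nat.Prime 13) := ⟨by norm_num⟩
  have hle : zpowers y ≤ normalizer (K : Set H) := zpowers_le.mpr hK
  letI : MulAction (zpowers y) K :=
    { smul := fun g k => ⟨g.1 * k.1 * g.1⁻¹, (Subgroup.mem_normalizer_iff.mp (hle g.2) k.1).mp k.2⟩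
      one_smul := fun k => Subtype.ext (show (1 : H) * k.1 * 1⁻¹ = k.1 by simp)
      mul_smul := fun g g' k => Subtype.ext
        (show g.1 * g'.1 * k.1 * (g.1 * g'.1)⁻¹ = g.1 * (g'.1 * k.1 * g'.1⁻¹) * g.1⁻¹ by
          simp [mul_assoc]) }
  have hp : IsPGroup 13 (zpowers y) :=
    IsPGroup.of_card (n := 1) (by rw [Nat.card_zpowers, hy, pow_one])
  refine (hp.card_modEq_card_fixedPoints K).trans ?_
  have hfix : MulAction.fixedPoints (zpowers y) K = {1} := by
    refine Set.eq_singleton_iff_unique_mem.mpr ⟨fun g => Subtype.ext (show g.1 * 1 * g.1⁻¹ = 1 by simp), ?_⟩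
    intro k hk
    have h1 : y * k.1 * y⁻¹ = k.1 := congrArg Subtype.val (hk ⟨y, mem_zpowers y⟩)
    exact Subtype.ext (hf k.1 k.2 (mul_inv_eq_iff_eq_mul.mp h1))
  rw [hfix, Nat.card_unique]

variable (hcard : Nat.card H = 5616)
  (hle : ∀ h : H, h ≠ 1 → Nat.card ↥(centralizer ({h} : Set H)) ≤ 54)
  (h13 : Nat.card {h : H // Nat.card ↥(centralizer ({h} : Set H)) = 13} = 1728)

include hcard h13 in
theorem card_eq_13_iff (h : H) :
    orderOf h = 13 ↔ Nat.card ↥(centralizer ({h} : Set H)) = 13 := by
  classical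
  haveI : Fact (Nat.Prime 13) := ⟨by norm_num⟩
  have hsub : ∀ x : H, Nat.card ↥(centralizer ({x} : Set H)) = 13 → orderOf x = 13 := by
    intro x hx
    have hd : orderOf x ∣ 13 := by
      rw [← hx, ← Nat.card_zpowers]
      exact Subgroup.card_dvd_of_le (zpowers_le.mpr (mem_centralizer_singleton_iff.mpr rfl))
    rcases (Nat.dvd_prime (by norm_num)).mp hd with h1 | h1
    · exfalso
      rw [orderOf_eq_one_iff] at h1
      subst h1
      have : centralizer ({1} : Set H) = ⊤ :=
        eq_top_iff.mpr fun g _ => mem_centralizer_singleton_iff.mpr (by simp)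
      rw [this, card_top, hcard] at hx
      norm_num at hx
    · exact h1
  refine ⟨fun ho => ?_, hsub h⟩
  set A := {x : H | Nat.card ↥(centralizer ({x} : Set H)) = 13}
  set B := {x : H | orderOf x = 13}
  have hs : ∀ x : B, ∃ P : Sylow 13 H, x.1 ∈ P := fun x => by
    obtain ⟨P, hP⟩ := (IsPGroup.of_card (p := 13) (n := 1) (G := zpowers x.1)
      (by rw [Nat.card_zpowers, x.2, pow_one])).exists_le_sylow
    exact ⟨P, hP (mem_zpowers _)⟩
  choose P hP using hs
  have hP13 : ∀ Q : Sylow 13 H, Nat.card Q = 13 := fun Q =>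
    (card_sylow_eq (a := 1) (b := 432) (by rw [hcard]; norm_num) (by norm_num) Q).trans (pow_one _)
  let φ : B → Σ Q : Sylow 13 H, {y : Q // y ≠ 1} := fun x =>
    ⟨P x, ⟨⟨x.1, hP x⟩, fun e => by
      have e1 : x.1 = 1 := congrArg Subtype.val e
      have := x.2
      simp only [B, Set.mem_setOf_eq, e1, orderOf_one] at this
      norm_num at this⟩⟩
  have hφ : Function.Injective φ := fun x y e =>
    Subtype.ext (congrArg (fun z : Σ Q : Sylow 13 H, {y : Q // y ≠ 1} => (z.2.1 : H)) e)
  have hB : Nat.card B ≤ 1728 := by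
    refine (Nat.card_le_card_of_injective φ hφ).trans ?_
    haveI hfin := Fintype.ofFinite (Sylow 13 H)
    rw [Nat.card_sigma]
    have h12 : ∀ Q : Sylow 13 H, Nat.card {y : Q // y ≠ 1} = 12 := fun Q => by
      haveI := Fintype.ofFinite Q
      rw [Nat.card_eq_fintype_card, Fintype.card_subtype_compl, Fintype.card_subtype_eq,
        ← Nat.card_eq_fintype_card]
      exact congrArg (· - 1) (hP13 Q)
    haveI hfin := Fintype.ofFinite (Sylow 13 H)
    simp only [h12, Finset.sum_const, smul_eq_mul, Finset.card_univ, ← Nat.card_eq_fintype_card]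
    obtain ⟨Q⟩ := (inferInstance : Nonempty (Sylow 13 H))
    have hidx : Q.1.index = 432 := by
      have := Q.1.card_mul_index
      rw [show Nat.card Q.1 = 13 from hP13 Q, hcard] at this
      omega
    have hmem := card_dvd_modEq _ 432 (hidx ▸ Q.card_dvd_index) (card_sylow_modEq_one 13 H)
      (by norm_num)
    have : ∀ d ∈ ((432 : ℕ).divisors.filter fun d => d % 13 = 1), d * 12 ≤ 1728 := by decide +kernel
    exact this _ hmem
  have hAB : A ⊆ B := fun x hx => hsub x hx
  have : A = B := Set.eq_of_subset_of_ncard_le hAB (by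
    rw [← Nat.card_coe_set_eq, ← Nat.card_coe_set_eq]
    exact hB.trans (le_of_eq h13.symm)) (Set.toFinite _)
  show h ∈ A
  rw [this]; exact ho

include hcard hle in
theorem card_normal_ge (N : Subgroup H) [N.Normal] (hN : N ≠ ⊥) : 105 ≤ Nat.card N := by
  classical
  obtain ⟨n, hn, hn1⟩ := N.bot_or_exists_ne_one.resolve_left hN
  let φ : Option (H ⧸ centralizer ({n} : Set H)) → N := fun x => x.elim 1 fun q =>
    Quotient.liftOn' q (fun h => (⟨h * n * h⁻¹, Normal.conj_mem ‹N.Normal› n hn h⟩ : N))
      fun a b hab => by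
        have hc := mem_centralizer_singleton_iff.mp (QuotientGroup.leftRel_apply.mp hab)
        have e := congrArg (fun t => a * t * b⁻¹) hc
        simp only [mul_assoc, mul_inv_cancel_left, mul_inv_cancel, mul_one] at e
        exact Subtype.ext (by simpa [mul_assoc] using e.symm)
  have hne : ∀ a : H, a * n * a⁻¹ ≠ 1 := fun a => by simpa using hn1
  have hφ : Function.Injective φ := by
    intro x y e
    rcases x with _ | q <;> rcases y with _ | q'
    · rfl
    · induction q' using QuotientGroup.induction_on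
      exact absurd (congrArg Subtype.val e).symm (hne _)
    · induction q using QuotientGroup.induction_on
      exact absurd (congrArg Subtype.val e) (hne _)
    · induction q using QuotientGroup.induction_on
      induction q' using QuotientGroup.induction_on
      rename_i a b
      have e' : a * n * a⁻¹ = b * n * b⁻¹ := congrArg Subtype.val e
      refine congrArg some (QuotientGroup.eq.mpr (mem_centralizer_singleton_iff.mpr ?_))
      have e2 := congrArg (fun t => a⁻¹ * t * b) e'
      simp only [mul_assoc, inv_mul_cancel_left, inv_mul_cancel, mul_one] at e2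
      simpa [mul_assoc] using e2.symm
  refine le_trans ?_ (Nat.card_le_card_of_injective φ hφ)
  rw [Finite.card_option]
  have h1 := (centralizer ({n} : Set H)).card_mul_index
  rw [hcard] at h1
  have h2 := hle n hn1
  rw [show Nat.card (H ⧸ centralizer ({n} : Set H)) = (centralizer ({n} : Set H)).index from rfl]
  by_contra hlt
  have : Nat.card ↥(centralizer ({n} : Set H)) * (centralizer ({n} : Set H)).index ≤ 54 * 103 :=
    Nat.mul_le_mul h2 (by omega)
  omega

include hcard hle h13 in
theorem not_dvd_false (N : Subgroup H) [N.Normal] (hN : N ≠ ⊥) (hd : ¬ 13 ∣ Nat.card N) :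
    False := by
  haveI : Fact (Nat.Prime 13) := ⟨by norm_num⟩
  haveI : Fact (Nat.Prime 3) := ⟨by norm_num⟩
  have hfpf : ∀ y : H, orderOf y = 13 → ∀ K : Subgroup H, ¬ 13 ∣ Nat.card K →
      ∀ k ∈ K, y * k = k * y → k = 1 := by
    intro y hy K hK k hk hc
    have hC : centralizer ({y} : Set H) = zpowers y := (Subgroup.eq_of_le_of_card_ge
      (zpowers_le.mpr (mem_centralizer_singleton_iff.mpr rfl))
      (by rw [(card_eq_13_iff hcard h13 y).mp hy, Nat.card_zpowers, hy])).symm
    have hk' : k ∈ zpowers y := hC ▸ mem_centralizer_singleton_iff.mpr hc.symm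
    have h1 : orderOf k ∣ 13 := by rw [← hy, ← Nat.card_zpowers y]; exact Subgroup.orderOf_dvd_natCard _ hk'
    have h2 : orderOf k ∣ Nat.card K := Subgroup.orderOf_dvd_natCard K hk
    rcases (Nat.dvd_prime (by norm_num)).mp h1 with e | e
    · exact orderOf_eq_one_iff.mp e
    · exact absurd (e ▸ h2) hK
  obtain ⟨y, hy⟩ := exists_prime_orderOf_dvd_card' (G := H) 13 (by rw [hcard]; norm_num)
  have hmod := modEq_one_of_fpf hy N (by rw [Subgroup.normalizer_eq_top]; trivial)
    (hfpf y hy N hd)
  have hdvd : Nat.card N ∣ 5616 := hcard ▸ card_subgroup_dvd_card N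
  have h432 : Nat.card N ∣ 432 :=
    ((Nat.Coprime.dvd_mul_left ((Nat.Prime.coprime_iff_not_dvd (by norm_num)).mpr hd).symm).mp
      (by norm_num; exact hdvd : Nat.card N ∣ 13 * 432))
  have hN144 : Nat.card N = 144 := by
    have := card_normal_ge hcard hle N hN
    have hall : ∀ d ∈ ((432 : ℕ).divisors.filter fun d => d % 13 = 1), 105 ≤ d → d = 144 := by
      decide +kernel
    exact hall _ (card_dvd_modEq _ 432 h432 hmod (by norm_num)) this
  obtain ⟨Q⟩ := (inferInstance : Nonempty (Sylow 3 N))
  set Q' : Subgroup H := (Q : Subgroup N).map N.subtype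
  have hQ : Nat.card Q' = 9 := by
    rw [Subgroup.card_map_of_injective N.subtype_injective]
    exact (card_sylow_eq (a := 2) (b := 16) (by rw [hN144]; norm_num) (by norm_num) Q).trans
      (by norm_num)
  have hsup := Sylow.normalizer_sup_eq_top Q
  have h13Q : 13 ∣ Nat.card (normalizer (Q' : Set H)) := by
    have hmap : (normalizer (Q' : Set H)).map (QuotientGroup.mk' N) = ⊤ := by
      have := congrArg (Subgroup.map (QuotientGroup.mk' N)) hsup
      rwa [Subgroup.map_sup, QuotientGroup.map_mk'_self, sup_bot_eq,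
        Subgroup.map_top_of_surjective _ (QuotientGroup.mk'_surjective N)] at this
    have := Subgroup.card_map_dvd (normalizer (Q' : Set H)) (f := QuotientGroup.mk' N)
    rw [hmap, card_top] at this
    refine dvd_trans ?_ this
    have e := N.card_mul_index
    rw [hN144, hcard] at e
    rw [show Nat.card (H ⧸ N) = N.index from rfl]
    exact ⟨3, by omega⟩
  obtain ⟨⟨z, hz⟩, hzo⟩ := exists_prime_orderOf_dvd_card' (G := normalizer (Q' : Set H)) 13 h13Q
  rw [Subgroup.orderOf_mk] at hzo
  have := modEq_one_of_fpf hzo Q' hz (hfpf z hzo Q' (by rw [hQ]; norm_num))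
  rw [hQ] at this
  exact absurd this (by decide)

include hcard hle h13 in
theorem eq_top_of_dvd (N : Subgroup H) [N.Normal] (hd : 13 ∣ Nat.card N) : N = ⊤ := by
  classical
  haveI : Fact (Nat.Prime 13) := ⟨by norm_num⟩
  by_contra hne
  have hall : ∀ x : H, orderOf x = 13 → x ∈ N := by
    intro x hx
    have h1 : orderOf (x : H ⧸ N) ∣ 13 := hx ▸ orderOf_map_dvd (QuotientGroup.mk' N) x
    rcases (Nat.dvd_prime (by norm_num)).mp h1 with e | e
    · exact (QuotientGroup.eq_one_iff x).mp (orderOf_eq_one_iff.mp e)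
    · exfalso
      have h2 : 13 ∣ N.index := e ▸ _root_.orderOf_dvd_natCard (x : H ⧸ N)
      have := Nat.mul_dvd_mul hd h2
      rw [N.card_mul_index, hcard] at this
      norm_num at this
  have hB : 1728 = Nat.card {x : N // orderOf x = 13} := by
    rw [← h13]
    refine Nat.card_congr
      { toFun := fun x => ⟨⟨x.1, hall x.1 ((card_eq_13_iff hcard h13 x.1).mpr x.2)⟩, by
          rw [Subgroup.orderOf_mk]; exact (card_eq_13_iff hcard h13 x.1).mpr x.2⟩
        invFun := fun x => ⟨x.1.1, (card_eq_13_iff hcard h13 x.1.1).mp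
          (by rw [Subgroup.orderOf_coe]; exact x.2)⟩
        left_inv := fun x => rfl
        right_inv := fun x => rfl }
  have hlt : 1729 ≤ Nat.card N := by
    have : Nat.card (Option {x : N // orderOf x = 13}) ≤ Nat.card N := by
      refine Nat.card_le_card_of_injective (fun o => o.elim 1 Subtype.val) ?_
      rintro (_ | x) (_ | y) e <;> simp at e ⊢
      · exact absurd y.2 (by rw [← e]; simp)
      · exact absurd x.2 (by rw [e]; simp)
      · exact Subtype.ext e
    rw [Finite.card_option, ← hB] at this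
    omega
  have hdvd : Nat.card N ∣ 5616 := hcard ▸ card_subgroup_dvd_card N
  have hN : Nat.card N = 1872 ∨ Nat.card N = 2808 := by
    have h5 : Nat.card N ≠ 5616 := fun e => hne ((Subgroup.card_eq_iff_eq_top N).mp (e.trans hcard.symm))
    have hall' : ∀ d ∈ (5616 : ℕ).divisors, 1729 ≤ d → d ≠ 5616 → d = 1872 ∨ d = 2808 := by
      decide +kernel
    exact hall' _ (Nat.mem_divisors.mpr ⟨hdvd, by norm_num⟩) hlt h5
  have hP13 : ∀ Q : Sylow 13 N, Nat.card Q = 13 := fun Q => by
    rcases hN with e | e
    · exact (card_sylow_eq (a := 1) (b := 144) (by rw [e]; norm_num) (by norm_num) Q).trans (pow_one _)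
    · exact (card_sylow_eq (a := 1) (b := 216) (by rw [e]; norm_num) (by norm_num) Q).trans (pow_one _)
  have hn : 144 ≤ Nat.card (Sylow 13 N) := by
    have hs : ∀ x : {x : N // orderOf x = 13}, ∃ P : Sylow 13 N, x.1 ∈ P := fun x => by
      obtain ⟨P, hP⟩ := (IsPGroup.of_card (p := 13) (n := 1) (G := zpowers x.1)
        (by rw [Nat.card_zpowers, x.2, pow_one])).exists_le_sylow
      exact ⟨P, hP (mem_zpowers _)⟩
    choose P hP using hs
    let φ : {x : N // orderOf x = 13} → Σ Q : Sylow 13 N, {y : Q // y ≠ 1} := fun x =>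
      ⟨P x, ⟨⟨x.1, hP x⟩, fun e => by
        have e1 : x.1 = 1 := congrArg Subtype.val e
        have := x.2
        rw [e1, orderOf_one] at this
        norm_num at this⟩⟩
    have hφ : Function.Injective φ := fun x y e =>
      Subtype.ext (congrArg (fun z : Σ Q : Sylow 13 N, {y : Q // y ≠ 1} => (z.2.1 : N)) e)
    have := Nat.card_le_card_of_injective φ hφ
    haveI hfin := Fintype.ofFinite (Sylow 13 N)
    rw [← hB, Nat.card_sigma] at this
    have h12 : ∀ Q : Sylow 13 N, Nat.card {y : Q // y ≠ 1} = 12 := fun Q => by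
      haveI := Fintype.ofFinite Q
      rw [Nat.card_eq_fintype_card, Fintype.card_subtype_compl, Fintype.card_subtype_eq,
        ← Nat.card_eq_fintype_card]
      exact congrArg (· - 1) (hP13 Q)
    haveI hfin := Fintype.ofFinite (Sylow 13 N)
    simp only [h12, Finset.sum_const, smul_eq_mul, Finset.card_univ,
      ← Nat.card_eq_fintype_card] at this
    omega
  obtain ⟨Q⟩ := (inferInstance : Nonempty (Sylow 13 N))
  have hidx : Q.1.index = Nat.card N / 13 := by
    have := Q.1.card_mul_index
    rw [show Nat.card Q.1 = 13 from hP13 Q] at this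
    omega
  have hmod := card_sylow_modEq_one 13 N
  have hcd := Q.card_dvd_index
  rw [hidx] at hcd
  rcases hN with e | e
  swap
  · rw [e] at hcd
    have hall' : ∀ d ∈ ((216 : ℕ).divisors.filter fun d => d % 13 = 1), d < 144 := by decide +kernel
    exact absurd hn (not_le.mpr (hall' _ (card_dvd_modEq _ 216 hcd hmod (by norm_num))))
  rw [e] at hcd
  have hn144 : Nat.card (Sylow 13 N) = 144 := le_antisymm (Nat.le_of_dvd (by norm_num) hcd) hn
  have hnorm : normalizer ((Q : Subgroup N) : Set N) = (Q : Subgroup N) := by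
    refine (Subgroup.eq_of_le_of_card_ge Subgroup.le_normalizer ?_).symm
    have h1 := (normalizer ((Q : Subgroup N) : Set N)).card_mul_index
    rw [← show Nat.card (Sylow 13 N) = (normalizer ((Q : Subgroup N) : Set N)).index from
      Sylow.card_eq_index_normalizer Q, hn144, e] at h1
    rw [show Nat.card (Q : Subgroup N) = 13 from hP13 Q]
    omega
  have hcent : normalizer ((Q : Subgroup N) : Set N) ≤ centralizer ((Q : Subgroup N) : Set N) := by
    rw [hnorm]
    haveI : IsCyclic (Q : Subgroup N) := isCyclic_of_prime_card (p := 13) (hP13 Q)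
    intro a ha b hb
    have := mul_comm' (⟨b, hb⟩ : (Q : Subgroup N)) ⟨a, ha⟩
    exact congrArg Subtype.val this
  have hcompl := MonoidHom.ker_transferSylow_isComplement' Q hcent
  set K := (MonoidHom.transferSylow Q hcent).ker
  have hK : Nat.card K = 144 := by
    have := hcompl.card_mul
    rw [show Nat.card (Q : Subgroup N) = 13 from hP13 Q, e] at this
    omega
  set K' := K.map N.subtype
  have hK' : Nat.card K' = 144 := by
    rw [Subgroup.card_map_of_injective N.subtype_injective, hK]
  haveI : K'.Normal := ⟨fun k hk h => by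
    obtain ⟨k₀, hk₀, rfl⟩ := Subgroup.mem_map.mp hk
    refine Subgroup.mem_map.mpr
      ⟨⟨h * k₀.1 * h⁻¹, Normal.conj_mem ‹N.Normal› _ k₀.2 h⟩, ?_, rfl⟩
    rw [MonoidHom.mem_ker]
    set m : N := ⟨h * k₀.1 * h⁻¹, Normal.conj_mem ‹N.Normal› _ k₀.2 h⟩
    have h1 : m ^ 144 = 1 := by
      have h2 : k₀ ^ 144 = 1 := orderOf_dvd_iff_pow_eq_one.mp
        (hK ▸ Subgroup.orderOf_dvd_natCard K hk₀)
      refine Subtype.ext ?_
      rw [SubmonoidClass.coe_pow, conj_pow, ← SubmonoidClass.coe_pow, h2]
      simp
    have h3 : orderOf (MonoidHom.transferSylow Q hcent m) ∣ 144 :=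
      (orderOf_map_dvd _ m).trans (orderOf_dvd_of_pow_eq_one h1)
    have h4 : orderOf (MonoidHom.transferSylow Q hcent m) ∣ 13 :=
      (_root_.orderOf_dvd_natCard _).trans (dvd_of_eq (hP13 Q))
    have h5 := Nat.dvd_gcd h3 h4
    norm_num at h5
    exact h5⟩
  refine not_dvd_false hcard hle h13 K' ?_ (by rw [hK']; norm_num)
  intro hbot
  rw [hbot, card_bot] at hK'
  norm_num at hK'

include hcard hle h13 in
theorem isSimple : IsSimpleGroup H := by
  haveI : Nontrivial H := Finite.one_lt_card_iff_nontrivial.mp (by rw [hcard]; norm_num)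
  refine ⟨fun N hN => ?_⟩
  by_cases hd : 13 ∣ Nat.card N
  · exact .inr (eq_top_of_dvd hcard hle h13 N hd)
  · by_contra hc
    push Not at hc
    exact not_dvd_false hcard hle h13 N hc.1 hd

end CfsgLib.Recognition.CommutingGraphPSL33
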